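import Mathlib

/-!
# `length (R / I^n) ≤ length (R / I) * C(n + d, d)` for an ideal generated by `d` elements
-/

set_option autoImplicit false
universe u

namespace GrothLib.SopMult

open Filter Topology

variable {R : Type u} [CommRing R] {d : ℕ} (g : Fin d → R)

theorem pow_le_span (k : ℕ) : Ideal.span (Set.range g) ^ k ≤
    Ideal.span (Set.range fun s : Sym (Fin d) k => ((s : Multiset (Fin d)).map g).prod) := by
  classical
  induction k with
  | zero =>
    rw [pow_zero, Ideal.one_eq_top, top_le_iff, Ideal.eq_top_iff_one]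
    exact Ideal.subset_span ⟨Sym.nil, by simp⟩
  | succ k ih =>
    rw [pow_succ]
    refine (Ideal.mul_mono_left ih).trans ?_
    rw [Ideal.span_mul_span', Ideal.span_le]
    rintro _ ⟨_, ⟨s, rfl⟩, _, ⟨i, rfl⟩, rfl⟩
    exact Ideal.subset_span ⟨i ::ₛ s, by simp [Sym.coe_cons, mul_comm (g i)]⟩

theorem length_succ_le (k : ℕ) :
    Module.length R (R ⧸ Ideal.span (Set.range g) ^ (k + 1)) ≤
      (d.multichoose k : ℕ∞) * Module.length R (R ⧸ Ideal.span (Set.range g)) +
        Module.length R (R ⧸ Ideal.span (Set.range g) ^ k) := by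
  classical
  set I := Ideal.span (Set.range g) with hI
  have hmem : ∀ s : Sym (Fin d) k, ((s : Multiset (Fin d)).map g).prod ∈ I ^ k := by
    intro s
    obtain ⟨m, hm⟩ := s
    subst hm
    show (m.map g).prod ∈ I ^ m.card
    induction m using Multiset.induction with
    | empty => simp
    | cons a m ih =>
      rw [Multiset.map_cons, Multiset.prod_cons, Multiset.card_cons, pow_succ, mul_comm (g a)]
      exact Ideal.mul_mem_mul ih (Ideal.subset_span ⟨a, rfl⟩)
  let f : (Sym (Fin d) k → R ⧸ I) →ₗ[R] R ⧸ I ^ (k + 1) :=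
    LinearMap.lsum R (fun _ : Sym (Fin d) k => R ⧸ I) R fun s =>
      Submodule.liftQ I ((I ^ (k + 1)).mkQ ∘ₗ LinearMap.mulRight R ((s : Multiset (Fin d)).map g).prod)
        fun x hx => by
          rw [LinearMap.mem_ker, LinearMap.comp_apply, Submodule.mkQ_apply,
            Submodule.Quotient.mk_eq_zero, LinearMap.mulRight_apply, pow_succ']
          exact Ideal.mul_mem_mul hx (hmem s)
  let π := Submodule.factor (Ideal.pow_le_pow_right (Nat.le_succ k) : I ^ (k + 1) ≤ I ^ k)
  have hker : LinearMap.ker π ≤ LinearMap.range f := by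
    intro y hy
    obtain ⟨x, rfl⟩ := Submodule.mkQ_surjective _ y
    have hx : x ∈ I ^ k := by
      rw [LinearMap.mem_ker] at hy
      simpa [π, Ideal.Quotient.eq_zero_iff_mem] using hy
    obtain ⟨c, rfl⟩ := (Submodule.mem_span_range_iff_exists_fun R).1 (pow_le_span g k hx)
    refine ⟨fun s => Submodule.Quotient.mk (c s), ?_⟩
    simp only [f, LinearMap.lsum_apply, LinearMap.sum_apply, LinearMap.comp_apply, LinearMap.proj_apply,
      Submodule.liftQ_apply, map_sum, LinearMap.mulRight_apply, smul_eq_mul]
  rw [Module.length_eq_add_of_exact (LinearMap.ker π).subtype π (Submodule.subtype_injective _)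
    (Submodule.factor_surjective _) (LinearMap.exact_subtype_ker_map π)]
  refine add_le_add ?_ le_rfl
  refine (Module.length_le_of_injective (Submodule.inclusion hker) (Submodule.inclusion_injective _)).trans ?_
  refine (Module.length_le_of_surjective f.rangeRestrict f.surjective_rangeRestrict).trans ?_
  rw [Module.length_pi, ENat.card_eq_coe_fintype_card, Sym.card_sym_eq_multichoose, Fintype.card_fin]

theorem length_pow_le (n : ℕ) :
    Module.length R (R ⧸ Ideal.span (Set.range g) ^ n) ≤
      ((n + d).choose d : ℕ∞) * Module.length R (R ⧸ Ideal.span (Set.range g)) := by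
  have key : ∀ n, Module.length R (R ⧸ Ideal.span (Set.range g) ^ (n + 1)) ≤
      ((d + 1).multichoose n : ℕ∞) * Module.length R (R ⧸ Ideal.span (Set.range g)) := by
    intro n
    induction n with
    | zero => rw [Nat.multichoose_zero_right, Nat.cast_one, one_mul, zero_add, pow_one]
    | succ n ih =>
      refine (length_succ_le g (n + 1)).trans ((add_le_add le_rfl ih).trans ?_)
      rw [← add_mul, ← Nat.cast_add, ← Nat.multichoose_succ_succ]
  rcases n with _ | n
  · have : Subsingleton (R ⧸ Ideal.span (Set.range g) ^ 0) := by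
      rw [pow_zero, Ideal.one_eq_top]; exact Ideal.Quotient.subsingleton_iff.2 rfl
    rw [Module.length_eq_zero_iff.2 this]
    exact zero_le
  · refine (key n).trans (mul_le_mul' ?_ le_rfl)
    rw [Nat.cast_le, Nat.multichoose_eq, show d + 1 + n - 1 = d + n by omega, ← Nat.choose_symm_add]
    exact Nat.choose_le_choose _ (by omega)

theorem tendsto_choose (d : ℕ) :
    Tendsto (fun n : ℕ => (((n : ℝ) + d) / n) ^ d) atTop (𝓝 1) := by
  have h := (tendsto_const_div_atTop_nhds_zero_nat (d : ℝ)).const_add 1 |>.pow d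
  rw [add_zero, one_pow] at h
  refine h.congr' ?_
  filter_upwards [eventually_gt_atTop 0] with n hn
  congr 1
  have : (n : ℝ) ≠ 0 := Nat.cast_ne_zero.2 hn.ne'
  field_simp

theorem le_length_of_tendsto {e : ℝ} {L : ℕ} (hL : Module.length R (R ⧸ Ideal.span (Set.range g)) = L)
    (he : Tendsto (fun n : ℕ => (d.factorial : ℝ) *
      ((Module.length R (R ⧸ Ideal.span (Set.range g) ^ n)).toNat : ℝ) / (n : ℝ) ^ d) atTop (𝓝 e)) :
    e ≤ L := by
  have h2 := (tendsto_choose d).const_mul (L : ℝ)
  rw [mul_one] at h2
  refine le_of_tendsto_of_tendsto he h2 ?_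
  filter_upwards [eventually_gt_atTop 0] with n hn
  have h := length_pow_le g n
  rw [hL] at h
  have h' : (Module.length R (R ⧸ Ideal.span (Set.range g) ^ n)).toNat ≤ (n + d).choose d * L := by
    have := ENat.toNat_le_toNat h (by rw [← Nat.cast_mul]; exact ENat.natCast_ne_top _)
    simpa using this
  have h3 : d.factorial * (Module.length R (R ⧸ Ideal.span (Set.range g) ^ n)).toNat ≤ L * (n + d) ^ d := by
    refine (Nat.mul_le_mul_left _ h').trans ?_
    rw [← mul_assoc, ← Nat.descFactorial_eq_factorial_mul_choose, mul_comm _ L]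
    exact Nat.mul_le_mul_left _ (Nat.descFactorial_le_pow _ _)
  rw [div_pow, ← mul_div_assoc]
  refine div_le_div_of_nonneg_right ?_ (by positivity)
  exact_mod_cast h3

end GrothLib.SopMult
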