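import Mathlib
import Groth.Agent.Lib.SopMult.Bound
import Groth.Agent.Lib.HilbSam.Assoc

/-!
# Every top dimensional component contributes at least one to the multiplicity
-/

set_option autoImplicit false
universe u

namespace GrothLib.SopMult

open Filter Topology Polynomial GrothLib.HilbSam

variable {R : Type u} [CommRing R] [IsNoetherianRing R] [IsLocalRing R]

theorem one_le_factorial_mul_coeff {f : ℕ → ℤ} {P : ℚ[X]} (hne : P ≠ 0) (hf : ∀ t, 0 ≤ f t)
    (hP : ∀ᶠ t : ℕ in atTop, (f t : ℚ) = P.eval (t : ℚ)) :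
    1 ≤ (P.natDegree.factorial : ℚ) * P.leadingCoeff := by
  obtain ⟨N, hN⟩ := eventually_atTop.1 hP
  have h := congrFun (Polynomial.fwdDiff_iter_degree_eq_factorial P) (N : ℚ)
  rw [fwdDiff_iter_eq_sum_shift] at h
  have hint : ∃ z : ℤ, (P.natDegree.factorial : ℚ) * P.leadingCoeff = z := by
    refine ⟨∑ k ∈ Finset.range (P.natDegree + 1),
      ((-1 : ℤ) ^ (P.natDegree - k) * (P.natDegree.choose k : ℤ)) * f (N + k), ?_⟩
    rw [mul_comm]
    simp only [Pi.smul_apply, smul_eq_mul, nsmul_eq_mul, mul_one] at h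
    rw [show (P.leadingCoeff * (P.natDegree.factorial : ℚ)) =
      P.leadingCoeff * ((P.natDegree.factorial : ℚ → ℚ) (N : ℚ)) from rfl, ← h]
    push_cast
    refine Finset.sum_congr rfl fun k _ => ?_
    rw [hN (N + k) (Nat.le_add_right _ _)]
    simp [zsmul_eq_mul]
  obtain ⟨z, hz⟩ := hint
  have hlc : 0 ≤ P.leadingCoeff := by
    have h1 := tendsto_eval_div_pow P (le_refl P.natDegree)
    have h2 : (0 : ℝ) ≤ (P.coeff P.natDegree : ℝ) := by
      refine ge_of_tendsto h1 ?_
      filter_upwards [hP] with t ht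
      have : (0 : ℚ) ≤ P.eval (t : ℚ) := by rw [← ht]; exact_mod_cast hf t
      have : (0 : ℝ) ≤ ((P.eval (t : ℚ) : ℚ) : ℝ) := by exact_mod_cast this
      positivity
    exact_mod_cast h2
  have hpos : (0 : ℚ) < (P.natDegree.factorial : ℚ) * P.leadingCoeff :=
    mul_pos (by exact_mod_cast P.natDegree.factorial_pos)
      (lt_of_le_of_ne hlc (Ne.symm (leadingCoeff_ne_zero.2 hne)))
  rw [hz] at hpos ⊢
  have : (0 : ℤ) < z := by exact_mod_cast hpos
  exact_mod_cast (Int.add_one_le_iff.2 this : (0 : ℤ) + 1 ≤ z)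

theorem ncard_top_le_length (d : ℕ) (hd : ringKrullDim R = d) (g : Fin d → R)
    (hg : ∀ i, g i ∈ IsLocalRing.maximalIdeal R)
    (hsop : IsLocalRing.maximalIdeal R ≤ (Ideal.span (Set.range g)).radical) :
    (Set.ncard {p : Ideal R | p ∈ minimalPrimes R ∧ ringKrullDim (R ⧸ p) = d} : ℕ∞) ≤
      Module.length R (R ⧸ Ideal.span (Set.range g)) := by
  classical
  set I := Ideal.span (Set.range g) with hIdef
  obtain ⟨n, hn⟩ := I.exists_radical_pow_le_of_fg (IsNoetherian.noetherian _)
  have hmn : IsLocalRing.maximalIdeal R ^ n ≤ I := (Ideal.pow_right_mono hsop n).trans hn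
  have hIm : I ≤ Ring.jacobson R := by
    rw [IsLocalRing.ringJacobson_eq_maximalIdeal, hIdef, Ideal.span_le]
    rintro _ ⟨i, rfl⟩
    exact hg i
  have hdef : ∀ (M : Type u) [AddCommGroup M] [Module R M], IsDefining I M := fun M _ _ =>
    IsDefining.of_pow_le hmn M
  rcases eq_or_ne (Module.length R (R ⧸ I)) ⊤ with htop | htop
  · rw [htop]; exact le_top
  obtain ⟨L, hL⟩ := ENat.ne_top_iff_exists.1 htop
  have hdim : ∀ p : PrimeSpectrum R, Module.supportDim R (R ⧸ p.asIdeal) ≤ d := fun p => by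
    rw [Module.supportDim_quotient_eq_ringKrullDim, ← hd]
    exact ringKrullDim_quotient_le _
  choose P hP hP' using fun p : PrimeSpectrum R =>
    exists_polynomial_le (hdef (R ⧸ p.asIdeal)) (hdim p)
  let e : PrimeSpectrum R → ℝ := fun p => ((P p).coeff d : ℝ)
  have he : ∀ p : PrimeSpectrum R, ringKrullDim (R ⧸ p.asIdeal) = d →
      Tendsto (fun t : ℕ => (samuel I (R ⧸ p.asIdeal) t : ℝ) / (t : ℝ) ^ d) atTop (𝓝 (e p)) :=
    fun p _ => tendsto_samuel_of_eval (hP p) (hP' p)
  obtain ⟨hfin, hfs, hlim⟩ := tendsto_samuel_assoc (maximal_of_pow_le hmn) e he R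
    (by rw [Module.supportDim_self_eq_ringKrullDim, hd])
  have h1e : ∀ p : PrimeSpectrum R, ringKrullDim (R ⧸ p.asIdeal) = d → 1 ≤ (d.factorial : ℝ) * e p := by
    intro p hp
    have : Nontrivial (R ⧸ p.asIdeal) := Ideal.Quotient.nontrivial_iff.2 p.isPrime.ne_top
    have hdeg : (P p).natDegree = d := by
      have h := natDegree_eq_supportDim hIm (hdef _) (hP' p)
      rw [Module.supportDim_quotient_eq_ringKrullDim, hp] at h
      exact_mod_cast h
    have hne : P p ≠ 0 := by
      intro h0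
      obtain ⟨t, ht, ht0⟩ := ((hP' p).and (eventually_gt_atTop 0)).exists
      have hpos := samuel_pos hIm ((hdef (R ⧸ p.asIdeal)).isFiniteLength) ht0.ne'
      rw [h0, Polynomial.eval_zero, Int.cast_eq_zero] at ht
      omega
    have h := one_le_factorial_mul_coeff hne (fun t => by simp [samuel, len]) (hP' p)
    rw [Polynomial.leadingCoeff, hdeg] at h
    show (1 : ℝ) ≤ d.factorial * ((P p).coeff d : ℝ)
    exact_mod_cast h
  have hlim' := (tendsto_factorial_mul_iff (I := I) (M := R) (e := (d.factorial : ℝ) * ∑ᶠ p, wgt d e R p)).2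
    (by rwa [mul_div_cancel_left₀ _ (Nat.cast_ne_zero.2 d.factorial_ne_zero)])
  have hle : (d.factorial : ℝ) * ∑ᶠ p, wgt d e R p ≤ L := by
    refine le_length_of_tendsto g hL.symm (Tendsto.congr (fun t => ?_) hlim')
    rw [← hIdef, (Submodule.quotEquivOfEq _ _ (show (I ^ t • ⊤ : Submodule R R) = I ^ t by
      rw [smul_eq_mul, Ideal.mul_top])).length_eq]
  set S := {p : Ideal R | p ∈ minimalPrimes R ∧ ringKrullDim (R ⧸ p) = d}
  have hSfin : S.Finite := (minimalPrimes.finite_of_isNoetherianRing R).subset fun p hp => hp.1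
  let T : Finset (PrimeSpectrum R) := (hSfin.preimage (f := PrimeSpectrum.asIdeal)
    (fun _ _ _ _ h => PrimeSpectrum.ext h)).toFinset
  have hTcard : T.card = S.ncard := by
    rw [← Set.ncard_coe_finset, Set.Finite.coe_toFinset]
    exact Set.ncard_preimage_of_injective_subset_range (fun _ _ h => PrimeSpectrum.ext h)
      fun p hp => ⟨⟨p, Ideal.minimalPrimes_isPrime hp.1⟩, rfl⟩
  have hwge : ∀ p ∈ T, (1 : ℝ) ≤ d.factorial * wgt d e R p := by
    intro p hp
    rw [Set.Finite.mem_toFinset] at hp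
    rw [wgt, if_pos hp.2, mul_left_comm]
    refine one_le_mul_of_one_le_of_one_le ?_ (h1e p hp.2)
    have h0 : Module.length (Localization.AtPrime p.asIdeal) (LocalizedModule p.asIdeal.primeCompl R) ≠ 0 := by
      rw [Ne, Module.length_eq_zero_iff, not_subsingleton_iff_nontrivial]
      exact Module.mem_support_iff.1 (by simp [Module.mem_support_iff_of_finite, Module.annihilator_eq_bot.2 inferInstance])
    have := hfin p hp.2
    rw [Nat.one_le_cast, Nat.one_le_iff_ne_zero, Ne, ENat.toNat_eq_zero]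
    tauto
  have hnn : ∀ p, 0 ≤ wgt d e R p := by
    intro p
    rw [wgt]
    split_ifs with h
    · refine mul_nonneg (Nat.cast_nonneg _) ?_
      have := h1e p h
      by_contra hneg
      nlinarith [mul_neg_of_pos_of_neg (Nat.cast_pos.2 d.factorial_pos : (0 : ℝ) < d.factorial) (not_le.1 hneg)]
    · exact le_rfl
  have hsum : (T.card : ℝ) ≤ d.factorial * ∑ᶠ p, wgt d e R p := by
    calc (T.card : ℝ) = ∑ p ∈ T, (1 : ℝ) := by simp
      _ ≤ ∑ p ∈ T, d.factorial * wgt d e R p := Finset.sum_le_sum hwge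
      _ ≤ ∑ p ∈ T ∪ hfs.toFinset, d.factorial * wgt d e R p :=
          Finset.sum_le_sum_of_subset_of_nonneg Finset.subset_union_left
            fun p _ _ => mul_nonneg (Nat.cast_nonneg _) (hnn p)
      _ = _ := by
          rw [← Finset.mul_sum, finsum_eq_sum_of_support_subset _ (s := T ∪ hfs.toFinset)
            (fun p hp => Finset.mem_union_right _ (hfs.mem_toFinset.2 hp))]
  rw [← hL, ← hTcard, Nat.cast_le]
  exact_mod_cast hsum.trans hle

end GrothLib.SopMult
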